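import Mathlib
import Cfsg.Agent.H51.Mult
import Cfsg.Agent.H487.SchurMult
set_option linter.all false

/-!
# The Schur multiplier from its parts

`X` finite and perfect.

* `card_ker_dvd`: if the kernel of a perfect central extension which is a `p`-group has order dividing `a` and the
  kernel of order prime to `p` has order dividing `b`, every kernel has order dividing `a * b`.
* `hasSchurMultiplier_of_coprime`: two perfect central extensions with kernels `A₁`, `A₂` of coprime orders, and every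
  kernel of order dividing `|A₁| |A₂|`: the multiplier is `A₁ × A₂`.
* `hasSchurMultiplier_of_cover`: one perfect central extension with kernel `A`, every kernel of order dividing `|A|`:
  the multiplier is `A`.
-/

set_option autoImplicit false

namespace Cfsg.Agent.H66.SchurParts

open Subgroup Function
open Cfsg.Agent.H51.Mult Cfsg.Agent.H487

universe u v w u' v'

/-! ### Powers in finite abelian groups -/

section Ab

variable {A : Type u} [CommGroup A] [Finite A]

omit [Finite A] in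
theorem card_ker_mul_card_range {B : Type v} [Group B] (f : A →* B) :
    Nat.card f.ker * Nat.card f.range = Nat.card A := by
  rw [mul_comm, ← Nat.card_congr (QuotientGroup.quotientKerEquivRange f).toEquiv]
  exact (Subgroup.card_eq_card_quotient_mul_card_subgroup f.ker).symm

/-- The image of the `a`-th power in an abelian group of order `a * b`, `a` and `b` coprime, has order `b`. -/
theorem card_range_pow {a b : ℕ} (hab : Nat.card A = a * b) (hc : a.Coprime b) :
    Nat.card (powMonoidHom a : A →* A).range = b ∧ Nat.card (powMonoidHom a : A →* A).ker = a := by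
  have hA : 0 < Nat.card A := Nat.card_pos
  have h1 : (Nat.card (powMonoidHom a : A →* A).range).Coprime a := by
    refine Nat.Coprime.symm (Nat.Coprime.symm (Nat.coprime_of_dvd fun p hp hd hda => ?_))
    have : Fact p.Prime := ⟨hp⟩
    obtain ⟨x, hx⟩ := exists_prime_orderOf_dvd_card' p hd
    obtain ⟨y, hy⟩ := x.2
    have h2 : x ^ b = 1 := by
      apply Subtype.ext
      rw [SubmonoidClass.coe_pow, ← hy, powMonoidHom_apply, ← pow_mul, ← hab, pow_card_eq_one', OneMemClass.coe_one]
    have h3 : p ∣ b := by rw [← hx]; exact orderOf_dvd_of_pow_eq_one h2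
    exact hp.one_lt.ne' (Nat.dvd_one.1 (hc ▸ Nat.dvd_gcd hda h3))
  have h2 : (Nat.card (powMonoidHom a : A →* A).ker).Coprime b := by
    refine Nat.coprime_of_dvd fun p hp hd hdb => ?_
    have : Fact p.Prime := ⟨hp⟩
    obtain ⟨x, hx⟩ := exists_prime_orderOf_dvd_card' p hd
    have h2 : x ^ a = 1 := Subtype.ext (MonoidHom.mem_ker.1 x.2)
    have h3 : p ∣ a := by rw [← hx]; exact orderOf_dvd_of_pow_eq_one h2
    exact hp.one_lt.ne' (Nat.dvd_one.1 (hc ▸ Nat.dvd_gcd h3 hdb))
  have h3 := card_ker_mul_card_range (powMonoidHom a : A →* A)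
  rw [hab] at h3
  have ha : 0 < a := Nat.pos_of_ne_zero fun h => by rw [hab, h, zero_mul] at hA; exact lt_irrefl _ hA
  have h4 : Nat.card (powMonoidHom a : A →* A).range ∣ b :=
    h1.dvd_of_dvd_mul_left (Dvd.intro_left _ h3)
  have h5 : Nat.card (powMonoidHom a : A →* A).ker ∣ a :=
    h2.dvd_of_dvd_mul_right (Dvd.intro _ h3)
  have hb : 0 < b := Nat.pos_of_ne_zero fun h => by rw [hab, h, mul_zero] at hA; exact lt_irrefl _ hA
  obtain ⟨c, hc'⟩ := h4
  obtain ⟨d, hd'⟩ := h5
  set k := Nat.card (powMonoidHom a : A →* A).ker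
  set r := Nat.card (powMonoidHom a : A →* A).range
  have h6 : k * r * (d * c) = k * r := by
    calc k * r * (d * c) = (k * d) * (r * c) := by ring
      _ = a * b := by rw [← hc', ← hd']
      _ = k * r := h3.symm
  have hkr : 0 < k * r := by rw [h3]; positivity
  have h7 : d * c = 1 := Nat.eq_of_mul_eq_mul_left hkr (by rw [h6, mul_one])
  have hd1 : d = 1 := Nat.dvd_one.1 (Dvd.intro _ h7)
  have hc1 : c = 1 := Nat.dvd_one.1 (Dvd.intro_left _ h7)
  rw [hd1, mul_one] at hd'
  rw [hc1, mul_one] at hc'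
  exact ⟨hc'.symm, hd'.symm⟩

end Ab

/-! ### The order of the kernels -/

section Dvd

variable {X : Type v} [Group X]

/-- The quotient by the elements of the kernel killed by the power `n`. -/
theorem exists_pow_quot {L : Type u} [Group L] [Finite L] {π : L →* X} (h : PCE π) {a b : ℕ}
    (hab : Nat.card π.ker = a * b) (hc : a.Coprime b) :
    ∃ (L' : Type) (_ : Group L') (_ : Finite L') (ρ : L' →* X), PCE ρ ∧ Nat.card ρ.ker = b := by
  let _ : CommGroup π.ker := { (inferInstance : Group π.ker) with mul_comm := ker_comm h }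
  obtain ⟨h1, h2⟩ := card_range_pow hab hc
  have hle : (powMonoidHom a : π.ker →* π.ker).ker.map π.ker.subtype ≤ π.ker := by
    rintro _ ⟨x, -, rfl⟩; exact x.2
  obtain ⟨L₁, _, q, ρ, hq, hk, hρ, h3⟩ := h.quot hle
  have : Finite L₁ := Finite.of_surjective q hq
  have h4 := card_ker_of_quot (π := π) hq hρ
  have h5 : Nat.card q.ker = a := by
    rw [hk, Subgroup.card_map_of_injective (Subgroup.subtype_injective _), h2]
  have h6 : Nat.card ρ.ker = b := by
    rw [hab, h5, mul_comm a b] at h4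
    have ha : 0 < a := by
      have : 0 < Nat.card π.ker := Nat.card_pos
      rw [hab] at this
      exact Nat.pos_of_mul_pos_right this
    exact (Nat.eq_of_mul_eq_mul_right ha h4).symm
  obtain ⟨L', _, _, ρ', h7, ⟨e⟩⟩ := h3.lower
  exact ⟨L', inferInstance, inferInstance, ρ', h7, by rw [Nat.card_congr e.toEquiv, h6]⟩

/-- **The order of the kernel from the `p`-part and the `p'`-part.** -/
theorem card_ker_dvd {p a b : ℕ} (hp : p.Prime)
    (h1 : ∀ (L : Type) [Group L] [Finite L] (π : L →* X), PCE π → IsPGroup p π.ker → Nat.card π.ker ∣ a)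
    (h2 : ∀ (L : Type) [Group L] [Finite L] (π : L →* X), PCE π → (Nat.card π.ker).Coprime p → Nat.card π.ker ∣ b)
    {L : Type u} [Group L] [Finite L] {π : L →* X} (h : PCE π) : Nat.card π.ker ∣ a * b := by
  have h0 : Nat.card π.ker ≠ 0 := Nat.card_pos.ne'
  obtain ⟨k, m, hm, hkm⟩ := Nat.exists_eq_pow_mul_and_not_dvd h0 p hp.ne_one
  have hcop : (p ^ k).Coprime m := Nat.Coprime.pow_left k ((Nat.Prime.coprime_iff_not_dvd hp).2 hm)
  obtain ⟨L₁, _, _, ρ₁, h3, h4⟩ := exists_pow_quot h hkm hcop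
  obtain ⟨L₂, _, _, ρ₂, h5, h6⟩ := exists_pow_quot h (hkm.trans (mul_comm _ _)) hcop.symm
  have h7 := h2 L₁ ρ₁ h3 (by rw [h4]; exact ((Nat.Prime.coprime_iff_not_dvd hp).2 hm).symm)
  have h8 := h1 L₂ ρ₂ h5 (IsPGroup.of_card h6)
  rw [h4] at h7
  rw [h6] at h8
  rw [hkm]
  exact Nat.mul_dvd_mul h8 h7

end Dvd

/-! ### Assembly -/

section Asm

variable {X : Type u} [Group X] [Finite X]

/-- **One cover of maximal order.** -/
theorem hasSchurMultiplier_of_cover (hX : commutator X = ⊤) {L : Type v} [Group L] {π : L →* X} (h : PCE π)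
    (hb : ∀ (L' : Type) [Group L'] [Finite L'] (ρ : L' →* X), PCE ρ → Nat.card ρ.ker ∣ Nat.card π.ker)
    {A : Type w} [CommGroup A] (e : π.ker ≃* A) : Cfsg.HasSchurMultiplier X A := by
  have hM := hasSchurMultiplier_MM X
  have hfM : Finite (MM X) := finite_multiplier hM
  obtain ⟨f, hf⟩ := HasSchurMultiplier.exists_surj_ker hM h.toStem
  have hfk : Finite π.ker := Finite.of_surjective f hf
  have hkey : Nat.card (MM X) ≤ Nat.card π.ker := by
    obtain ⟨⟨Γ, _, _, σ, hσ, ⟨e'⟩⟩, -⟩ := hM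
    obtain ⟨L', _, _, ρ, h1, ⟨e''⟩⟩ := (PCE.of_stem hσ hX).lower
    have h2 := hb L' ρ h1
    rw [Nat.card_congr e''.toEquiv, Nat.card_congr e'.toEquiv] at h2
    exact Nat.le_of_dvd Nat.card_pos h2
  have hbij : Bijective f := (Nat.bijective_iff_surjective_and_card f).2
    ⟨hf, le_antisymm hkey (Nat.card_le_card_of_surjective f hf)⟩
  exact hasSchurMultiplier_iff.2 ⟨(e.symm.trans (MulEquiv.ofBijective f hbij).symm)⟩

/-- **Two covers of coprime degrees.** -/
theorem hasSchurMultiplier_of_coprime (hX : commutator X = ⊤) {L₁ : Type v} [Group L₁] {π₁ : L₁ →* X} (h₁ : PCE π₁)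
    {L₂ : Type v'} [Group L₂] {π₂ : L₂ →* X} (h₂ : PCE π₂) (hc : (Nat.card π₁.ker).Coprime (Nat.card π₂.ker))
    (hb : ∀ (L : Type) [Group L] [Finite L] (ρ : L →* X), PCE ρ → Nat.card ρ.ker ∣ Nat.card π₁.ker * Nat.card π₂.ker)
    {A₁ : Type w} [CommGroup A₁] {A₂ : Type u'} [CommGroup A₂] (e₁ : π₁.ker ≃* A₁) (e₂ : π₂.ker ≃* A₂) :
    Cfsg.HasSchurMultiplier X (A₁ × A₂) := by
  have hM := hasSchurMultiplier_MM X
  have hfM : Finite (MM X) := finite_multiplier hM
  obtain ⟨f₁, hf₁⟩ := HasSchurMultiplier.exists_surj_ker hM h₁.toStem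
  obtain ⟨f₂, hf₂⟩ := HasSchurMultiplier.exists_surj_ker hM h₂.toStem
  have hk₁ : Finite π₁.ker := Finite.of_surjective f₁ hf₁
  have hk₂ : Finite π₂.ker := Finite.of_surjective f₂ hf₂
  have hkey : Nat.card (MM X) ≤ Nat.card π₁.ker * Nat.card π₂.ker := by
    obtain ⟨⟨Γ, _, _, σ, hσ, ⟨e'⟩⟩, -⟩ := hM
    obtain ⟨L', _, _, ρ, h1, ⟨e''⟩⟩ := (PCE.of_stem hσ hX).lower
    have h2 := hb L' ρ h1
    rw [Nat.card_congr e''.toEquiv, Nat.card_congr e'.toEquiv] at h2
    exact Nat.le_of_dvd (Nat.mul_pos Nat.card_pos Nat.card_pos) h2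
  let g : MM X →* π₁.ker × π₂.ker := f₁.prod f₂
  have hg : Surjective g := by
    have hd₁ : Nat.card π₁.ker ∣ Nat.card g.range := by
      refine Subgroup.card_dvd_of_surjective ((MonoidHom.fst π₁.ker π₂.ker).comp g.range.subtype) fun y => ?_
      obtain ⟨x, rfl⟩ := hf₁ y
      exact ⟨⟨g x, x, rfl⟩, rfl⟩
    have hd₂ : Nat.card π₂.ker ∣ Nat.card g.range := by
      refine Subgroup.card_dvd_of_surjective ((MonoidHom.snd π₁.ker π₂.ker).comp g.range.subtype) fun y => ?_
      obtain ⟨x, rfl⟩ := hf₂ y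
      exact ⟨⟨g x, x, rfl⟩, rfl⟩
    have hd := Nat.Coprime.mul_dvd_of_dvd_of_dvd hc hd₁ hd₂
    rw [← Nat.card_prod] at hd
    rw [← MonoidHom.range_eq_top]
    exact Subgroup.eq_top_of_le_card _ (Nat.le_of_dvd Nat.card_pos hd)
  have hbij : Bijective g := (Nat.bijective_iff_surjective_and_card g).2
    ⟨hg, le_antisymm (by rw [Nat.card_prod]; exact hkey) (Nat.card_le_card_of_surjective g hg)⟩
  exact hasSchurMultiplier_iff.2
    ⟨((MulEquiv.prodCongr e₁ e₂).symm.trans (MulEquiv.ofBijective g hbij).symm)⟩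

end Asm

end Cfsg.Agent.H66.SchurParts
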