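import Cfsg.Agent.BM.KHAll
import Cfsg.Agent.TwoESix.Cover
import Cfsg.Agent.TwoESix.GoodInst
import Cfsg.Agent.KFacts.Mult.TwESixTwo
import Cfsg.Agent.H51.Mult
import Cfsg.Agent.Prune
set_option linter.all false
prune_inst 0x7f00000000000000000000000000000000000000000000000000000000000000000000000000000000000000000000000000000000000000000000000000000000000000000000000000000000000000003fffffffffffffffffffffffffffbeffbdffffffff
open scoped Cfsg.Agent.FastGrp

/-!
# The cover `2².²E₆(2)`

In the presented Baby Monster the subgroup `Y = ⟨t2, …, t11⟩` has order `2 |²E₆(2)|`; the relators say that the ten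
nodes satisfy `ZRels s z` with `z` the ninth power of the `E₇` word with long arm `t4 t3 t2`.  The subgroup `X` of
`Y × Y` generated by the elements `(s i, s (pAB i))` (`pAB` exchanges the first two arms) contains `(z, 1)` and
`(1, z)`, is perfect, and its quotient by `⟨z⟩ × ⟨z⟩` is `²E₆(2)`: `exists_cover`.
-/

set_option autoImplicit false

namespace Cfsg.Agent.H66.TwESixCover

open Subgroup Function
open Cfsg Cfsg.Agent.TwoESix Cfsg.Agent.TwoESix.Cox10 Cfsg.Agent.TwoESix.Lift Cfsg.Agent.TwoESix.Cover
open Cfsg.Agent.H51.Mult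
open Cfsg.Spor.BabyMonster (Gen)

/-! ### The double cover in the Baby Monster -/

/-- The nodes. -/
def nd : Fin 10 → Gen := ![.t2, .t3, .t4, .t5, .t6, .t7, .t8, .t9, .t10, .t11]

theorem nd_ne (i : Fin 10) : nd i ≠ Gen.t1 := by
  fin_cases i <;> exact fun h => Gen.noConfusion h

theorem nd_lab (i j : Fin 10) : Spor.coxLabel Spor.BabyMonster.edges (nd i) (nd j) = lab i j := by
  revert i j; decide +kernel

/-- The double cover `2.²E₆(2)`. -/
abbrev Y : Type := ↥(BM.FactsB.HB BM.StageBFinalOf.gB)

/-- The ten generators. -/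
def sY (i : Fin 10) : Y := ⟨BM.StageBFinalOf.gB (nd i), BM.FactsB.mem_HB _ (nd_ne i)⟩

theorem closure_sY : _root_.Subgroup.closure (Set.range sY) = ⊤ := by
  have h1 : (_root_.Subgroup.closure (Set.range sY)).map (BM.FactsB.HB BM.StageBFinalOf.gB).subtype =
      (⊤ : Subgroup Y).map (BM.FactsB.HB BM.StageBFinalOf.gB).subtype := by
    rw [MonoidHom.map_closure, ← Set.range_comp, ← MonoidHom.range_eq_map, Subgroup.range_subtype]
    apply le_antisymm
    · rw [closure_le]
      rintro _ ⟨i, rfl⟩
      exact (sY i).2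
    · unfold BM.FactsB.HB
      rw [closure_le]
      rintro _ ⟨t, ht, rfl⟩
      have key : ∃ i, nd i = t := by
        cases t
        · exact absurd rfl ht
        · exact ⟨0, rfl⟩
        · exact ⟨1, rfl⟩
        · exact ⟨2, rfl⟩
        · exact ⟨3, rfl⟩
        · exact ⟨4, rfl⟩
        · exact ⟨5, rfl⟩
        · exact ⟨6, rfl⟩
        · exact ⟨7, rfl⟩
        · exact ⟨8, rfl⟩
        · exact ⟨9, rfl⟩
      obtain ⟨i, rfl⟩ := key
      exact subset_closure ⟨i, rfl⟩
  exact Subgroup.map_injective (Subgroup.subtype_injective _) h1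

theorem coe_ev_sY (w : List (Fin 10)) :
    ((ev sY w : Y) : Spor.BabyMonster) = ev (fun i => BM.StageBFinalOf.gB (nd i)) w :=
  ev_map (BM.FactsB.HB BM.StageBFinalOf.gB).subtype sY w

/-- The central involution. -/
def zY : Y := ev sY W321 ^ 9

theorem zrels_sY : ZRels sY zY where
  lift := by
    intro i j
    apply Subtype.ext
    show (BM.StageBFinalOf.gB (nd i) * BM.StageBFinalOf.gB (nd j)) ^ lab i j = 1
    rw [← nd_lab]
    exact BM.Psi.Rel.cox BM.StageBFinalOf.rel_gB _ _
  spider := by
    apply Subtype.ext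
    rw [SubmonoidClass.coe_pow, coe_ev_sY]
    have h := BM.Psi.Rel.spider BM.StageBFinalOf.rel_gB
    simp only [mul_assoc] at h
    simp only [ev, spider, List.map_cons, List.map_nil, List.prod_cons, List.prod_nil, mul_one]
    exact h
  e321 := rfl
  e231 := by
    apply Subtype.ext
    rw [SubmonoidClass.coe_pow, coe_ev_sY]
    have h := BM.Psi.Rel.e7a BM.StageBFinalOf.rel_gB
    simp only [mul_assoc] at h
    simp only [ev, W231, List.map_cons, List.map_nil, List.prod_cons, List.prod_nil, mul_one]
    exact h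
  e213 := by
    apply Subtype.ext
    rw [SubmonoidClass.coe_pow, coe_ev_sY]
    have h := BM.Psi.Rel.e7b BM.StageBFinalOf.rel_gB
    simp only [mul_assoc] at h
    simp only [ev, W213, List.map_cons, List.map_nil, List.prod_cons, List.prod_nil, mul_one]
    exact h

theorem card_Y : Nat.card Y = 2 * 76532479683774853939200 := BM.KHAll.card_H

/-! ### The fibre product -/

section Fibre

variable {G : Type} [Group G] {s : Fin 10 → G} {z : G}

theorem ev_prod {G' : Type} [Group G'] (s : Fin 10 → G) (s' : Fin 10 → G') (w : List (Fin 10)) :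
    ev (fun i => (s i, s' i)) w = (ev s w, ev s' w) :=
  Prod.ext (ev_map (MonoidHom.fst G G') _ w) (ev_map (MonoidHom.snd G G') _ w)

theorem swap_zrels (h : ZRels s z) :
    M10.IsLiftable (fun i => s (pAB i)) ∧ ev (fun i => s (pAB i)) spider ^ 10 = 1 ∧
      ev (fun i => s (pAB i)) W321 ^ 9 = 1 ∧ ev (fun i => s (pAB i)) W231 ^ 9 = z ∧
      ev (fun i => s (pAB i)) W213 ^ 9 = 1 := by
  refine ⟨lift_perm h.lift lab_pAB, spider_pAB h.lift h.spider, ?_, ?_, ?_⟩
  · rw [ev_comp, pow9_eq h.lift chkAB1, h.e231]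
  · rw [ev_comp, pow9_eq h.lift chkAB2, h.e321]
  · rw [ev_comp, pow9_eq h.lift chkAB3, h.e123]

/-- A group generated by the nodes of `Y₃₃₃` with one `E₇` word trivial is perfect. -/
theorem perfect_of_word (hl : M10.IsLiftable s) (hw : ev s W213 ^ 9 = 1) (htop : _root_.Subgroup.closure (Set.range s) = ⊤) :
    commutator G = ⊤ := by
  let q : G →* Abelianization G := Abelianization.of
  have hadj : ∀ i j, adj i j = true → q (s i) = q (s j) := by
    intro i j hij
    have h1 := congrArg q (braid hl hij)
    simp only [map_mul] at h1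
    have h2 : q (s i) * q (s j) * q (s i) = q (s i) * q (s j) * q (s j) := by
      rw [h1]; rw [mul_comm (q (s j)) (q (s i))]
    exact mul_left_cancel h2
  have e01 := hadj 0 1 (by decide)
  have e12 := hadj 1 2 (by decide)
  have e23 := hadj 2 3 (by decide)
  have e34 := hadj 3 4 (by decide)
  have e45 := hadj 4 5 (by decide)
  have e56 := hadj 5 6 (by decide)
  have e37 := hadj 3 7 (by decide)
  have e78 := hadj 7 8 (by decide)
  have e89 := hadj 8 9 (by decide)
  have hall : ∀ i, q (s i) = q (s 3) := by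
    intro i
    fin_cases i
    · exact e01.trans (e12.trans e23)
    · exact e12.trans e23
    · exact e23
    · rfl
    · exact e34.symm
    · exact e45.symm.trans e34.symm
    · exact e56.symm.trans (e45.symm.trans e34.symm)
    · exact e37.symm
    · exact e78.symm.trans e37.symm
    · exact e89.symm.trans (e78.symm.trans e37.symm)
  have h2 : q (s 3) * q (s 3) = 1 := by rw [← map_mul, sq hl, map_one]
  have h3 : q (s 3) = 1 := by
    have h4 := congrArg q hw
    rw [map_pow, ev_map, map_one] at h4
    have h5 : (fun i => q (s i)) = fun _ => q (s 3) := funext hall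
    rw [h5] at h4
    have h6 : ev (fun _ : Fin 10 => q (s 3)) W213 = q (s 3) ^ 7 := by
      rw [ev, List.map_const', List.prod_replicate]; rfl
    rw [h6, ← pow_mul] at h4
    calc q (s 3) = (q (s 3) * q (s 3)) ^ 31 * q (s 3) := by rw [h2, one_pow, one_mul]
      _ = q (s 3) ^ (7 * 9) := by rw [← pow_two, ← pow_mul, ← pow_succ]
      _ = 1 := h4
  rw [eq_top_iff, ← htop, closure_le]
  rintro _ ⟨i, rfl⟩
  exact (QuotientGroup.eq_one_iff _).1 ((hall i).trans h3)

/-- The generators of the fibre product. -/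
def tX (s : Fin 10 → G) (i : Fin 10) : G × G := (s i, s (pAB i))

/-- The fibre product. -/
abbrev X (s : Fin 10 → G) : Subgroup (G × G) := _root_.Subgroup.closure (Set.range (tX s))

/-- The generators in the fibre product. -/
def sX (s : Fin 10 → G) (i : Fin 10) : X s := ⟨tX s i, subset_closure ⟨i, rfl⟩⟩

theorem closure_sX (s : Fin 10 → G) : _root_.Subgroup.closure (Set.range (sX s)) = ⊤ := by
  have h1 : (_root_.Subgroup.closure (Set.range (sX s))).map (X s).subtype = (⊤ : Subgroup (X s)).map (X s).subtype := by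
    rw [MonoidHom.map_closure, ← Set.range_comp, ← MonoidHom.range_eq_map, Subgroup.range_subtype]
    rfl
  exact Subgroup.map_injective (Subgroup.subtype_injective _) h1

theorem coe_ev_sX (s : Fin 10 → G) (w : List (Fin 10)) :
    ((ev (sX s) w : X s) : G × G) = (ev s w, ev (fun i => s (pAB i)) w) := by
  have h1 : ((ev (sX s) w : X s) : G × G) = ev (tX s) w := ev_map (X s).subtype (sX s) w
  rw [h1]
  exact ev_prod s _ w

theorem lift_sX (h : ZRels s z) : M10.IsLiftable (sX s) := by
  intro i j
  apply Subtype.ext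
  exact Prod.ext (h.lift i j) ((swap_zrels h).1 i j)

theorem spider_sX (h : ZRels s z) : ev (sX s) spider ^ 10 = 1 := by
  apply Subtype.ext
  rw [SubmonoidClass.coe_pow, coe_ev_sX]
  exact Prod.ext h.spider (swap_zrels h).2.1

theorem e321_sX (h : ZRels s z) : ((ev (sX s) W321 ^ 9 : X s) : G × G) = (z, 1) := by
  rw [SubmonoidClass.coe_pow, coe_ev_sX]
  exact Prod.ext h.e321 (swap_zrels h).2.2.1

theorem e231_sX (h : ZRels s z) : ((ev (sX s) W231 ^ 9 : X s) : G × G) = (1, z) := by
  rw [SubmonoidClass.coe_pow, coe_ev_sX]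
  exact Prod.ext h.e231 (swap_zrels h).2.2.2.1

theorem e213_sX (h : ZRels s z) : ev (sX s) W213 ^ 9 = 1 := by
  apply Subtype.ext
  rw [SubmonoidClass.coe_pow, coe_ev_sX]
  exact Prod.ext h.e213 (swap_zrels h).2.2.2.2

theorem perfect_X (h : ZRels s z) : commutator (X s) = ⊤ :=
  perfect_of_word (lift_sX h) (e213_sX h) (closure_sX s)

variable [Finite G]

/-- **The cover**: `G` satisfies `ZRels s z` and has order twice the bound for the groups with `Good`. -/
theorem exists_pce (h : ZRels s z) (htop : _root_.Subgroup.closure (Set.range s) = ⊤) (hz : z ≠ 1) {E : Type*} [Group E] [Finite E]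
    {e : Fin 10 → E} (he : Good e) (hgen : _root_.Subgroup.closure (Set.range e) = ⊤)
    (hcard : ∀ (H : Type) [Group H] (y : Fin 10 → H), Good y → _root_.Subgroup.closure (Set.range y) = ⊤ →
      Nat.card H ≤ Nat.card E)
    (hHB : Finite HB) (hG : Nat.card G = 2 * Nat.card E) :
    ∃ π : X s →* E, PCE π ∧ Nat.card π.ker = 4 := by
  classical
  have hcen : ∀ g : G, z * g = g * z := fun g => (h.z_central htop g).eq.symm
  have hzz := h.zz
  -- the subgroup `⟨z⟩`
  have hzc : z ∈ center G := mem_center_iff.2 fun g => (hcen g).symm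
  have hmem : ∀ g, g ∈ zpowers z ↔ g = 1 ∨ g = z := by
    intro g
    constructor
    · rintro ⟨n, rfl⟩
      rcases Int.even_or_odd' n with ⟨m, rfl | rfl⟩
      · left
        show z ^ (2 * m) = 1
        rw [zpow_mul, zpow_ofNat, pow_two, hzz, one_zpow]
      · right
        show z ^ (2 * m + 1) = z
        rw [zpow_add_one, zpow_mul, zpow_ofNat, pow_two, hzz, one_zpow, one_mul]
    · rintro (rfl | rfl)
      · exact one_mem _
      · exact mem_zpowers _
  have hN : (zpowers z).Normal := normal_of_le_center ((zpowers_le).2 hzc)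
  have hcz : Nat.card (zpowers z) = 2 := by
    rw [Nat.card_zpowers]
    exact orderOf_eq_prime (by rw [pow_two]; exact hzz) hz
  let P := QuotientGroup.mk' (zpowers z)
  have hPz : P z = 1 := (QuotientGroup.eq_one_iff _).2 (mem_zpowers z)
  have hPs : Surjective P := QuotientGroup.mk'_surjective _
  have hcQ : Nat.card (G ⧸ zpowers z) = Nat.card E := by
    have h1 := Subgroup.card_eq_card_quotient_mul_card_subgroup (zpowers z)
    rw [hG, hcz] at h1
    omega
  -- the map to `G/⟨z⟩ × G/⟨z⟩`
  let Φ : X s →* (G ⧸ zpowers z) × (G ⧸ zpowers z) := (P.prodMap P).comp (X s).subtype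
  have hgood : Good (fun i => Φ.rangeRestrict (sX s i)) := by
    have hev : ∀ w, ev (fun i => Φ.rangeRestrict (sX s i)) w = Φ.rangeRestrict (ev (sX s) w) := fun w =>
      (ev_map Φ.rangeRestrict (sX s) w).symm
    refine ⟨fun i j => ?_, ?_, ?_, ?_, ?_⟩
    · show (Φ.rangeRestrict (sX s i) * Φ.rangeRestrict (sX s j)) ^ _ = 1
      rw [← map_mul, ← map_pow, lift_sX h i j, map_one]
    · rw [hev, ← map_pow, spider_sX h, map_one]
    · rw [hev, ← map_pow]
      apply Subtype.ext
      show (P.prodMap P) ((ev (sX s) W321 ^ 9 : X s) : G × G) = 1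
      rw [e321_sX h]
      exact Prod.ext hPz (map_one P)
    · rw [hev, ← map_pow]
      apply Subtype.ext
      show (P.prodMap P) ((ev (sX s) W231 ^ 9 : X s) : G × G) = 1
      rw [e231_sX h]
      exact Prod.ext (map_one P) hPz
    · rw [hev, ← map_pow, e213_sX h, map_one]
  have hrt : _root_.Subgroup.closure (Set.range fun i => Φ.rangeRestrict (sX s i)) = ⊤ := by
    have h2 : (Set.range fun i => Φ.rangeRestrict (sX s i)) = Φ.rangeRestrict '' Set.range (sX s) := by
      rw [← Set.range_comp]; rfl
    rw [h2, ← MonoidHom.map_closure, closure_sX, ← MonoidHom.range_eq_map, MonoidHom.range_eq_top]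
    exact Φ.rangeRestrict_surjective
  have hRle : Nat.card Φ.range ≤ Nat.card E := hcard _ _ hgood hrt
  -- the first projection
  have hp1 : Surjective ((MonoidHom.fst _ _).comp Φ.range.subtype : Φ.range →* G ⧸ zpowers z) := by
    rw [← MonoidHom.range_eq_top, eq_top_iff]
    have h2 : (⊤ : Subgroup (G ⧸ zpowers z)) = (_root_.Subgroup.closure (Set.range s)).map P := by
      rw [htop, ← MonoidHom.range_eq_map, MonoidHom.range_eq_top.2 hPs]
    rw [h2, MonoidHom.map_closure, closure_le]
    rintro _ ⟨_, ⟨i, rfl⟩, rfl⟩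
    exact ⟨Φ.rangeRestrict (sX s i), rfl⟩
  have hRcard : Nat.card Φ.range = Nat.card E :=
    le_antisymm hRle (hcQ ▸ Nat.card_le_card_of_surjective _ hp1)
  -- the isomorphism of the range with `E`
  have hbE := (toHom_surjective he hgen)
  have hHBE : Nat.card HB = Nat.card E :=
    le_antisymm (hcard HB s0 good_s0 closure_s0) (Nat.card_le_card_of_surjective _ hbE)
  have b1 : Bijective (toHom he) := (Nat.bijective_iff_surjective_and_card _).2 ⟨hbE, hHBE⟩
  have b2 : Bijective (toHom hgood) := (Nat.bijective_iff_surjective_and_card _).2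
    ⟨toHom_surjective hgood hrt, hHBE.trans hRcard.symm⟩
  let f : Φ.range ≃* E := (MulEquiv.ofBijective _ b2).symm.trans (MulEquiv.ofBijective _ b1)
  have hkerΦ : ∀ x : X s, Φ x = 1 ↔ (x : G × G).1 ∈ zpowers z ∧ (x : G × G).2 ∈ zpowers z := by
    intro x
    rw [Prod.ext_iff]
    exact and_congr (QuotientGroup.eq_one_iff _) (QuotientGroup.eq_one_iff _)
  have hker : (f.toMonoidHom.comp Φ.rangeRestrict).ker = Φ.ker := by
    ext x
    rw [MonoidHom.mem_ker, MonoidHom.mem_ker]
    constructor
    · intro hx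
      have h1 : Φ.rangeRestrict x = 1 := f.injective (by rw [map_one]; exact hx)
      exact congrArg Subtype.val h1
    · intro hx
      have h1 : Φ.rangeRestrict x = 1 := Subtype.ext hx
      show f (Φ.rangeRestrict x) = 1
      rw [h1, map_one]
  refine ⟨f.toMonoidHom.comp Φ.rangeRestrict, ⟨f.surjective.comp Φ.rangeRestrict_surjective, ?_, perfect_X h⟩, ?_⟩
  · rw [hker]
    intro x hx
    obtain ⟨h1, h2⟩ := (hkerΦ x).1 hx
    rw [mem_center_iff]
    intro g
    apply Subtype.ext
    refine Prod.ext ?_ ?_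
    · exact mem_center_iff.1 ((zpowers_le (H := center G)).2 hzc h1) _
    · exact mem_center_iff.1 ((zpowers_le (H := center G)).2 hzc h2) _
  · rw [hker]
    have hmem1 : ((z, 1) : G × G) ∈ X s := by rw [← e321_sX h]; exact Subtype.property _
    have hmem2 : ((1, z) : G × G) ∈ X s := by rw [← e231_sX h]; exact Subtype.property _
    have hle : (zpowers z).prod (zpowers z) ≤ X s := by
      rintro ⟨a, b⟩ ⟨ha, hb⟩
      have ha' : ((a, 1) : G × G) ∈ X s := by
        rcases (hmem a).1 ha with h0 | h0
        · rw [show a = 1 from h0]; exact one_mem _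
        · rw [show a = z from h0]; exact hmem1
      have hb' : ((1, b) : G × G) ∈ X s := by
        rcases (hmem b).1 hb with h0 | h0
        · rw [show b = 1 from h0]; exact one_mem _
        · rw [show b = z from h0]; exact hmem2
      have h1 := mul_mem ha' hb'
      rwa [Prod.mk_mul_mk, mul_one, one_mul] at h1
    have hk : Φ.ker.map (X s).subtype = (zpowers z).prod (zpowers z) := by
      ext ⟨a, b⟩
      constructor
      · rintro ⟨x, hx, hxe⟩
        have h1 := (hkerΦ x).1 hx
        have h2 : (x : G × G) = (a, b) := hxe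
        rw [h2] at h1
        exact h1
      · intro hab
        exact ⟨⟨(a, b), hle hab⟩, (hkerΦ _).2 hab, rfl⟩
    have h3 : Nat.card Φ.ker = Nat.card ((zpowers z).prod (zpowers z)) := by
      rw [← hk, Subgroup.card_map_of_injective (Subgroup.subtype_injective _)]
    rw [h3, Nat.card_congr (Subgroup.prodEquiv (zpowers z) (zpowers z)).toEquiv, Nat.card_prod, hcz]

end Fibre

/-- `z ≠ 1`, by the order. -/
theorem zY_ne : zY ≠ 1 := by
  intro h
  have h1 := zrels_sY
  rw [h] at h1
  have h2 := (BM.HBFinal.card_le h1.good closure_sY).2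
  rw [card_Y] at h2
  omega

theorem finite_Y : Finite Y := Nat.finite_of_card_ne_zero (by rw [card_Y]; norm_num)

/-- **The cover `2².²E₆(2)`.** -/
theorem exists_cover (K : Type*) [Field K] [Fintype K] (hK : Fintype.card K = 4) :
    ∃ (L : Type) (_ : Group L) (_ : Finite L) (π : L →* ↥(Lie.twistedE6 K 2)), PCE π ∧ Nat.card π.ker = 4 := by
  obtain ⟨e, r, he, hgen, -⟩ := GoodInst.exists_good K hK
  have hE := BM.HBFinal.card_E K hK
  have : Finite ↥(Lie.twistedE6 K 2) := Nat.finite_of_card_ne_zero (by rw [hE]; norm_num)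
  have := finite_Y
  obtain ⟨π, h1, h2⟩ := exists_pce zrels_sY closure_sY zY_ne he hgen
    (fun H _ y hy ht => KFacts.Mult.TwESixTwo.card_le_E K hK H y hy ht) BM.HBFinal.finite_HB
    (by rw [card_Y, hE])
  exact ⟨X sY, inferInstance, inferInstance, π, h1, h2⟩

end Cfsg.Agent.H66.TwESixCover
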